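import Mathlib
import Cfsg.Agent.Lib.Char.InvariantForm
import Cfsg.Agent.Lib.Char.Schur
import Cfsg.Agent.Lib.Block.SchurIndicator

/-!
Multiplicities of linear characters of `⟨y⟩ × Q`, and their parity in symplectic characters when
an element inverts `y`, normalises `Q` and squares into `Q`.
-/

set_option autoImplicit false
set_option linter.unusedSectionVars false

namespace Cfsg.Agent.Block.TwoOrth

open scoped ComplexConjugate Matrix
open Cfsg Cfsg.Agent.Char

universe u

/-- A rank factorisation of an idempotent matrix. -/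
theorem exists_factor {n : ℕ} (E : Matrix (Fin n) (Fin n) ℂ) (hE : E * E = E) :
    ∃ (r : ℕ) (A : Matrix (Fin n) (Fin r) ℂ) (B : Matrix (Fin r) (Fin n) ℂ),
      A * B = E ∧ B * A = 1 ∧ E.trace = (r : ℂ) := by
  classical
  set f := Matrix.toLin' E with hf
  let b := Module.finBasis ℂ (LinearMap.range f)
  let a' : (Fin (Module.finrank ℂ (LinearMap.range f)) → ℂ) →ₗ[ℂ] (Fin n → ℂ) :=
    (LinearMap.range f).subtype ∘ₗ b.equivFun.symm.toLinearMap
  let b' : (Fin n → ℂ) →ₗ[ℂ] (Fin (Module.finrank ℂ (LinearMap.range f)) → ℂ) :=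
    b.equivFun.toLinearMap ∘ₗ f.rangeRestrict
  have h1 : a' ∘ₗ b' = f := by
    refine LinearMap.ext fun v => ?_
    simp [a', b', LinearMap.rangeRestrict]
  have h2 : b' ∘ₗ a' = LinearMap.id := by
    refine LinearMap.ext fun v => ?_
    have hfix : ∀ w : LinearMap.range f, f.rangeRestrict (w : Fin n → ℂ) = w := by
      rintro ⟨w, x, rfl⟩
      refine Subtype.ext ?_
      show f (f x) = f x
      rw [hf, ← LinearMap.comp_apply, ← Matrix.toLin'_mul, hE]
    show b.equivFun (f.rangeRestrict ((b.equivFun.symm v : LinearMap.range f) : Fin n → ℂ)) = v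
    rw [hfix, LinearEquiv.apply_symm_apply]
  refine ⟨_, LinearMap.toMatrix' a', LinearMap.toMatrix' b', ?_, ?_, ?_⟩
  · rw [← LinearMap.toMatrix'_comp, h1, hf, LinearMap.toMatrix'_toLin']
  · rw [← LinearMap.toMatrix'_comp, h2, LinearMap.toMatrix'_id]
  · have h3 : E = LinearMap.toMatrix' a' * LinearMap.toMatrix' b' := by
      rw [← LinearMap.toMatrix'_comp, h1, hf, LinearMap.toMatrix'_toLin']
    conv_lhs => rw [h3]
    rw [Matrix.trace_mul_comm, ← LinearMap.toMatrix'_comp, h2, LinearMap.toMatrix'_id,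
      Matrix.trace_one, Fintype.card_fin]

/-- An idempotent which is self-adjoint for an invertible form, alternating on its image, has
even trace. -/
theorem even_trace {n : ℕ} (E K : Matrix (Fin n) (Fin n) ℂ) (hE : E * E = E) (hK : K.det ≠ 0)
    (hcomm : Eᵀ * K = K * E) (halt : (Eᵀ * K * E)ᵀ = -(Eᵀ * K * E)) :
    ∃ r : ℕ, Even r ∧ E.trace = (r : ℂ) := by
  classical
  obtain ⟨r, A, B, hAB, hBA, htr⟩ := exists_factor E hE
  refine ⟨r, ?_, htr⟩
  have hEA : E * A = A := by rw [← hAB, Matrix.mul_assoc, hBA, Matrix.mul_one]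
  have hBE : B * E = B := by rw [← hAB, ← Matrix.mul_assoc, hBA, Matrix.one_mul]
  have hKu : IsUnit K.det := isUnit_iff_ne_zero.mpr hK
  set M := Aᵀ * K * A with hM
  have hM' : M = Aᵀ * (Eᵀ * K * E) * A := by
    have e : Aᵀ * (Eᵀ * K * E) * A = (E * A)ᵀ * K * (E * A) := by
      simp only [Matrix.transpose_mul, Matrix.mul_assoc]
    rw [e, hEA, hM]
  have hskew : Mᵀ = -M := by
    conv_lhs => rw [hM']
    conv_rhs => rw [hM']
    simp only [Matrix.transpose_mul, Matrix.transpose_transpose, Matrix.mul_assoc]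
    rw [show Eᵀ * (Kᵀ * (E * A)) = (Eᵀ * K * E)ᵀ * A by
      simp only [Matrix.transpose_mul, Matrix.transpose_transpose, Matrix.mul_assoc], halt]
    simp [Matrix.mul_assoc]
  have hinv : M * (B * K⁻¹ * Bᵀ) = 1 := by
    calc Aᵀ * K * A * (B * K⁻¹ * Bᵀ) = Aᵀ * (K * (A * B)) * K⁻¹ * Bᵀ := by
          simp only [Matrix.mul_assoc]
      _ = (Aᵀ * Eᵀ) * (K * K⁻¹) * Bᵀ := by
          rw [hAB, ← hcomm]
          simp only [Matrix.mul_assoc]
      _ = (B * (E * A))ᵀ := by
          rw [Matrix.mul_nonsing_inv K hKu, Matrix.mul_one]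
          simp only [Matrix.transpose_mul, Matrix.mul_assoc]
      _ = 1 := by rw [hEA, hBA, Matrix.transpose_one]
  have hdet : M.det ≠ 0 := fun h => by
    have := congrArg Matrix.det hinv
    rw [Matrix.det_mul, h, zero_mul, Matrix.det_one] at this
    exact zero_ne_one this
  rcases Nat.even_or_odd r with h | h
  · exact h
  exfalso
  refine hdet ?_
  have e := congrArg Matrix.det hskew
  rw [Matrix.det_transpose, Matrix.det_neg, Fintype.card_fin, h.neg_one_pow] at e
  linear_combination e / 2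

variable {G : Type u} [Group G] [Fintype G]

/-- The multiplicity of the character `yⁱ q ↦ z⁻ⁱ` of `⟨y⟩ × Q`. -/
noncomputable def mult (y : G) (Q : Subgroup G) (z : ℂ) (f : G → ℂ) : ℂ :=
  haveI := Fintype.ofFinite Q
  ((orderOf y : ℂ) * (Nat.card Q : ℂ))⁻¹ *
    ∑ i ∈ Finset.range (orderOf y), ∑ q : Q, z ^ i * f (y ^ i * (q : G))

section Matrices

variable {n : ℕ} (A : G →* Matrix (Fin n) (Fin n) ℂ)

/-- The averaging idempotent of `z • A y`. -/
noncomputable def cycProj (y : G) (z : ℂ) : Matrix (Fin n) (Fin n) ℂ :=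
  (orderOf y : ℂ)⁻¹ • ∑ i ∈ Finset.range (orderOf y), z ^ i • A (y ^ i)

/-- The averaging idempotent of a subgroup. -/
noncomputable def fixProj (Q : Subgroup G) [Fintype Q] : Matrix (Fin n) (Fin n) ℂ :=
  (Nat.card Q : ℂ)⁻¹ • ∑ q : Q, A (q : G)

theorem cycProj_eigen (y : G) (z : ℂ) (hz : z ^ orderOf y = 1) :
    (z • A y) * cycProj A y z = cycProj A y z := by
  have h := Finset.sum_range_succ (fun i => z ^ i • A (y ^ i)) (orderOf y)
  rw [Finset.sum_range_succ'] at h
  simp only [pow_zero, one_smul, map_one, pow_orderOf_eq_one, hz] at h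
  have h' := add_right_cancel h
  rw [cycProj, Matrix.mul_smul, Finset.mul_sum]
  congr 1
  refine Eq.trans (Finset.sum_congr rfl fun i _ => ?_) h'
  rw [smul_mul_smul_comm, ← map_mul, ← pow_succ', ← pow_succ']

theorem cycProj_idem (y : G) (z : ℂ) (hz : z ^ orderOf y = 1) :
    cycProj A y z * cycProj A y z = cycProj A y z := by
  have hn : (orderOf y : ℂ) ≠ 0 := Nat.cast_ne_zero.mpr (orderOf_pos y).ne'
  have h1 : ∀ i, (z ^ i • A (y ^ i)) * cycProj A y z = cycProj A y z := by
    intro i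
    induction i with
    | zero => simp
    | succ i ih =>
      rw [pow_succ, pow_succ, map_mul, ← smul_mul_smul_comm, mul_assoc, cycProj_eigen A y z hz, ih]
  calc cycProj A y z * cycProj A y z
      = (orderOf y : ℂ)⁻¹ • ∑ i ∈ Finset.range (orderOf y),
          (z ^ i • A (y ^ i)) * cycProj A y z := by
        conv_lhs => enter [1]; rw [cycProj]
        rw [Matrix.smul_mul, Finset.sum_mul]
    _ = _ := by
        rw [Finset.sum_congr rfl fun i _ => h1 i, Finset.sum_const, Finset.card_range,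
          ← Nat.cast_smul_eq_nsmul ℂ, smul_smul, inv_mul_cancel₀ hn, one_smul]

theorem mul_fixProj (Q : Subgroup G) [Fintype Q] {q : G} (hq : q ∈ Q) :
    A q * fixProj A Q = fixProj A Q := by
  rw [fixProj, Matrix.mul_smul, Finset.mul_sum]
  congr 1
  refine Fintype.sum_equiv (Equiv.mulLeft (⟨q, hq⟩ : Q)) _ _ fun x => ?_
  simp [map_mul]

theorem fixProj_idem (Q : Subgroup G) [Fintype Q] : fixProj A Q * fixProj A Q = fixProj A Q := by
  have hn : (Nat.card Q : ℂ) ≠ 0 := Nat.cast_ne_zero.mpr Nat.card_pos.ne'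
  conv_lhs => enter [1]; rw [fixProj]
  rw [Matrix.smul_mul, Finset.sum_mul, Finset.sum_congr rfl fun q _ => mul_fixProj A Q q.2,
    Finset.sum_const, Finset.card_univ, ← Nat.card_eq_fintype_card, ← Nat.cast_smul_eq_nsmul ℂ,
    smul_smul, inv_mul_cancel₀ hn, one_smul]

theorem cyc_fix_comm (y : G) (z : ℂ) (Q : Subgroup G) [Fintype Q]
    (hQ : ∀ q ∈ Q, q * y = y * q) : Commute (cycProj A y z) (fixProj A Q) := by
  refine (Commute.sum_left _ _ _ fun i _ => ?_).smul_left _
  refine (Commute.sum_right _ _ _ fun q _ => ?_).smul_right _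
  refine Commute.smul_left ?_ _
  have h : Commute (q : G) y := hQ q q.2
  exact ((h.pow_right i).map A).symm

theorem cyc_fix_trace (y : G) (z : ℂ) (Q : Subgroup G) [Fintype Q] (P : Matrix (Fin n) (Fin n) ℂ) :
    (P * (cycProj A y z * fixProj A Q)).trace =
      ((orderOf y : ℂ) * (Nat.card Q : ℂ))⁻¹ *
        ∑ i ∈ Finset.range (orderOf y), ∑ q : Q, z ^ i * (P * A (y ^ i * (q : G))).trace := by
  simp only [cycProj, fixProj, Finset.sum_mul, Finset.mul_sum, Matrix.smul_mul, Matrix.mul_smul,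
    Matrix.trace_smul, Matrix.trace_sum, smul_eq_mul, map_mul, mul_inv, Finset.smul_sum]
  rw [Finset.sum_comm]
  exact Finset.sum_congr rfl fun i _ => Finset.sum_congr rfl fun q _ => by ring

end Matrices

/-- The matrices of a representation, as a homomorphism. -/
noncomputable def matHom {n : ℕ} (ρ : Representation ℂ G (Fin n → ℂ)) :
    G →* Matrix (Fin n) (Fin n) ℂ where
  toFun := Forms.X ρ
  map_one' := Forms.X_one ρ
  map_mul' := Forms.X_mul ρ

theorem mult_nat {χ : G → ℂ} (hχ : IsCharacter G χ) (y : G) (Q : Subgroup G)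
    (hQ : ∀ q ∈ Q, q * y = y * q) (z : ℂ) (hz : z ^ orderOf y = 1) :
    ∃ m : ℕ, mult y Q z χ = (m : ℂ) := by
  obtain ⟨n, ρ, rfl⟩ := hχ
  letI := Fintype.ofFinite Q
  set A := matHom ρ
  have hid : cycProj A y z * fixProj A Q * (cycProj A y z * fixProj A Q) =
      cycProj A y z * fixProj A Q := by
    rw [mul_assoc, ← mul_assoc (fixProj A Q), ← (cyc_fix_comm A y z Q hQ).eq, mul_assoc,
      fixProj_idem, ← mul_assoc, cycProj_idem A y z hz]
  obtain ⟨r, _, _, _, _, hr⟩ := exists_factor _ hid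
  refine ⟨r, ?_⟩
  rw [← hr, ← one_mul (cycProj A y z * fixProj A Q), cyc_fix_trace, mult]
  refine congrArg _ (Finset.sum_congr rfl fun i _ => Finset.sum_congr rfl fun q _ => ?_)
  rw [one_mul]
  exact congrArg _ (Forms.X_trace ρ _).symm

/-- The multiplicity inside a constituent of multiplicity one of a symplectic character is
even. -/
theorem mult_even (χ : IrrCharacter G) (hν : FS.ind (χ : G → ℂ) = -1) {H : Subgroup G}
    [Fintype H] {ψ : H → ℂ} (hψ : IsIrrCharacter H ψ) (hψr : ∀ h, conj (ψ h) = ψ h)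
    (hone : classInner (fun h : H => (χ : G → ℂ) h) ψ = 1) (y s : H) (Q : Subgroup H)
    (hQ : ∀ q ∈ Q, q * y = y * q) (hsy : s * y * s⁻¹ = y⁻¹) (hsQ : ∀ q, q ∈ Q ↔ s * q * s⁻¹ ∈ Q)
    (hs2 : s * s ∈ Q) (z : ℂ) (hz : z ^ orderOf y = 1) :
    ∃ r : ℕ, Even r ∧ mult y Q z ψ = (r : ℂ) := by
  classical
  have hχr : ∀ g, conj ((χ : G → ℂ) g) = (χ : G → ℂ) g := by
    rcases FS.ind_eq χ with ⟨h, -⟩ | ⟨-, h⟩
    · rw [hν] at h; exact absurd h (neg_ne_zero.mpr one_ne_zero)
    · exact h
  obtain ⟨n, ρ, hirr, hρ⟩ := χ.2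
  letI := Fintype.ofFinite Q
  obtain ⟨⟨J, hJ0, hJ⟩, htrans, -⟩ := Forms.forms ρ hirr (fun g => by
    rw [hρ, ← Complex.conj_eq_iff_im]; exact hχr g)
  have hJT : Jᵀ = -J := by
    rw [htrans J hJ]
    have : (Nat.card G : ℂ)⁻¹ * ∑ s : G, ρ.character (s * s) = -1 := by
      rw [hρ]; exact hν
    rw [this, neg_one_smul]
  set A : H →* Matrix (Fin n) (Fin n) ℂ := (matHom ρ).comp H.subtype with hA
  have hJA : ∀ h : H, J * A h = (A h⁻¹)ᵀ * J := by
    intro h
    have e := congrArg ((A h⁻¹)ᵀ * ·) (hJ (h : G))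
    simp only [← Matrix.mul_assoc] at e
    rw [← e, show (Forms.X ρ (h : G)) = A h from rfl, ← Matrix.transpose_mul, ← map_mul,
      mul_inv_cancel, map_one, Matrix.transpose_one, Matrix.one_mul]
  have hdetJ : J.det ≠ 0 := by
    intro hd
    obtain ⟨v, hv, hJv⟩ := Matrix.exists_mulVec_eq_zero_iff.2 hd
    let S : Subrepresentation ρ :=
      ⟨LinearMap.ker (Matrix.toLin' J), fun g w hw => by
        rw [LinearMap.mem_ker, Matrix.toLin'_apply] at hw ⊢
        rw [← Forms.X_mulVec]
        have h1 : (Forms.X ρ g⁻¹)ᵀ *ᵥ ((Forms.X ρ g)ᵀ * J * Forms.X ρ g) *ᵥ w = 0 := by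
          rw [hJ, hw, Matrix.mulVec_zero]
        rw [Matrix.mulVec_mulVec, ← Matrix.mul_assoc, ← Matrix.mul_assoc, ← Matrix.transpose_mul,
          ← Forms.X_mul, mul_inv_cancel, Forms.X_one, Matrix.transpose_one, Matrix.one_mul] at h1
        rw [Matrix.mulVec_mulVec]
        exact h1⟩
    haveI := hirr
    rcases eq_bot_or_eq_top S with hS | hS
    · have hmem : v ∈ S.toSubmodule := by
        show v ∈ LinearMap.ker (Matrix.toLin' J)
        rw [LinearMap.mem_ker, Matrix.toLin'_apply, hJv]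
      rw [hS] at hmem
      exact hv ((Submodule.mem_bot ℂ).1 hmem)
    · refine hJ0 (Matrix.toLin'.injective ?_)
      have h1 : LinearMap.ker (Matrix.toLin' J) = ⊤ := congrArg Subrepresentation.toSubmodule hS
      rw [map_zero]
      exact LinearMap.ker_eq_top.1 h1
  -- the projection to `ψ`
  obtain ⟨d, -, hd⟩ := IsIrr.one_eq_pos hψ
  have hd0 : (d : ℂ) ≠ 0 := hd ▸ IsIrr.one_ne_zero hψ
  have hH0 : (Nat.card H : ℂ) ≠ 0 := Nat.cast_ne_zero.mpr Nat.card_pos.ne'
  let F : H → ℂ := fun h => (d : ℂ) / (Nat.card H : ℂ) * conj (ψ h)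
  have hFinv : ∀ h, F h⁻¹ = F h := fun h => by
    simp only [F, IsIrr.apply_inv hψ, hψr]
  have hFcl : IsClassFunction H F := fun a b => by
    simp only [F, IsIrr.classFun hψ a b]
  set P : Matrix (Fin n) (Fin n) ℂ := ∑ h : H, F h • A h with hP
  have hPcomm : ∀ x : H, Commute (A x) P := by
    intro x
    show A x * P = P * A x
    rw [hP, Finset.mul_sum, Finset.sum_mul]
    refine Fintype.sum_equiv (MulAut.conj x).toEquiv _ _ fun h => ?_
    show A x * (F h • A h) = F (x * h * x⁻¹) • A (x * h * x⁻¹) * A x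
    rw [hFcl h x, Matrix.mul_smul, Matrix.smul_mul, ← map_mul, ← map_mul]
    group
  have hPP : P * P = P := by
    calc P * P = ∑ a : H, ∑ b : H, (F a * F b) • A (a * b) := by
          simp only [hP, Finset.sum_mul, Finset.mul_sum, smul_mul_smul_comm, ← map_mul]
          rw [Finset.sum_comm]
      _ = ∑ a : H, ∑ k : H, (F a * F (a⁻¹ * k)) • A k := Finset.sum_congr rfl fun a _ =>
          Fintype.sum_equiv (Equiv.mulLeft a) _ _ fun b => by simp
      _ = ∑ k : H, (∑ a : H, F a * F (a⁻¹ * k)) • A k := by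
          rw [Finset.sum_comm]
          simp only [Finset.sum_smul]
      _ = P := by
          refine Finset.sum_congr rfl fun k _ => ?_
          congr 1
          calc ∑ a : H, F a * F (a⁻¹ * k) = ∑ a : H, F a * F (a * k) :=
                Fintype.sum_equiv (Equiv.inv H) _ _ fun a => by
                  simp only [Equiv.inv_apply, hFinv]
            _ = ((d : ℂ) / (Nat.card H : ℂ)) ^ 2 * ∑ a : H, conj (ψ a) * ψ (a * k) := by
                rw [Finset.mul_sum]
                exact Finset.sum_congr rfl fun a _ => by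
                  simp only [F, hψr (a * k)]; ring
            _ = F k := by
                rw [sum_mul_conj_shift hψ k, hd]
                simp only [F, hψr k]
                field_simp
  have hPtr : ∀ x : H, (P * A x).trace = ψ x := by
    intro x
    have h1 : (P * A x).trace = ∑ h : H, F h * (χ : G → ℂ) ((h * x : H) : G) := by
      rw [hP, Finset.sum_mul, Matrix.trace_sum]
      refine Finset.sum_congr rfl fun h _ => ?_
      rw [Matrix.smul_mul, Matrix.trace_smul, ← map_mul, smul_eq_mul]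
      exact congrArg _ ((Forms.X_trace ρ _).trans (congrFun hρ _))
    rw [h1]
    show ∑ h : H, F h * (fun h : H => (χ : G → ℂ) h) (h * x) = _
    rw [classFunction_expansion (IsChar.classFun (IsChar.res (IsIrr.isCharacter χ.2) H))]
    simp only [sum_irr_apply, Finset.mul_sum]
    rw [Finset.sum_comm, Finset.sum_eq_single (⟨ψ, hψ⟩ : IrrCharacter H)]
    · rw [hone]
      simp only [one_mul]
      rw [sum_classFun_mul_apply hψ hFcl]
      have h2 := classInner_self_irr hψ
      rw [classInner, inv_mul_eq_iff_eq_mul₀ hH0, mul_one] at h2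
      have h3 : ∑ g : H, F g * ψ g = (d : ℂ) := by
        simp only [F, mul_assoc, ← Finset.mul_sum]
        rw [Finset.sum_congr rfl fun g _ => mul_comm (conj (ψ g)) (ψ g), h2]
        field_simp
      rw [h3, hd, div_self hd0, one_mul]
    · intro φ _ hφ
      refine (Finset.sum_congr rfl fun g _ => show F g * (_ * (φ : H → ℂ) (g * x)) =
        classInner (fun h : H => (χ : G → ℂ) h) (φ : H → ℂ) * (F g * (φ : H → ℂ) (g * x)) by
          ring).trans ?_
      rw [← Finset.mul_sum, sum_classFun_mul_apply φ.2 hFcl]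
      have h2 := classInner_irr_ne φ.2 hψ (fun e => hφ (Subtype.ext e))
      rw [classInner, mul_eq_zero, inv_eq_zero] at h2
      have h3 : ∑ g : H, F g * (φ : H → ℂ) g = 0 := by
        simp only [F, mul_assoc, ← Finset.mul_sum]
        rw [Finset.sum_congr rfl fun g _ => mul_comm (conj (ψ g)) ((φ : H → ℂ) g),
          h2.resolve_left hH0, mul_zero]
      rw [h3]; simp
    · simp
  set Ey := cycProj A y z with hEy
  set EQ := fixProj A Q with hEQ
  set E := P * (Ey * EQ) with hE
  have c1 : Commute Ey EQ := cyc_fix_comm A y z Q hQ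
  have c2 : Commute P Ey :=
    (Commute.sum_right _ _ _ fun i _ => ((hPcomm _).symm.smul_right _)).smul_right _
  have c3 : Commute P EQ := (Commute.sum_right _ _ _ fun q _ => (hPcomm _).symm).smul_right _
  have hEE : E * E = E := by
    have c4 : Commute P (Ey * EQ) := c2.mul_right c3
    calc E * E = (P * P) * ((Ey * EQ) * (Ey * EQ)) := c4.symm.mul_mul_mul_comm P (Ey * EQ)
      _ = P * ((Ey * Ey) * (EQ * EQ)) := by rw [hPP, c1.symm.mul_mul_mul_comm Ey EQ]
      _ = E := by rw [hEy, hEQ, cycProj_idem A y z hz, fixProj_idem A Q]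
  set K := J * A s with hK
  have hKdet : K.det ≠ 0 := by
    rw [hK, Matrix.det_mul]
    refine mul_ne_zero hdetJ fun h => ?_
    have := congrArg Matrix.det (show A s * A s⁻¹ = 1 by rw [← map_mul, mul_inv_cancel, map_one])
    rw [Matrix.det_mul, h, zero_mul, Matrix.det_one] at this
    exact zero_ne_one this
  have hPK : Pᵀ * K = K * P := by
    have e : Pᵀ * J = J * P := by
      rw [hP, Matrix.transpose_sum, Finset.sum_mul, Finset.mul_sum]
      refine Fintype.sum_equiv (Equiv.inv H) _ _ fun h => ?_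
      simp only [Equiv.inv_apply, hFinv, Matrix.transpose_smul, Matrix.smul_mul, Matrix.mul_smul,
        hJA, inv_inv]
    rw [hK, ← Matrix.mul_assoc, e, Matrix.mul_assoc, ← (hPcomm s).eq, Matrix.mul_assoc]
  have hyK : Eyᵀ * K = K * Ey := by
    rw [hK, hEy, cycProj, Matrix.transpose_smul, Matrix.smul_mul, Matrix.mul_smul,
      Matrix.transpose_sum, Finset.sum_mul, Finset.mul_sum]
    refine congrArg _ (Finset.sum_congr rfl fun i _ => ?_)
    rw [Matrix.transpose_smul, Matrix.smul_mul, Matrix.mul_smul]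
    congr 1
    have hconj : s * y ^ i = (y ^ i)⁻¹ * s := by
      have : s * y ^ i * s⁻¹ = (y ^ i)⁻¹ := by rw [← conj_pow, hsy, inv_pow]
      rw [← this, inv_mul_cancel_right]
    rw [Matrix.mul_assoc J, ← map_mul, hconj, map_mul, ← Matrix.mul_assoc, ← Matrix.mul_assoc,
      hJA, inv_inv]
  have hQK : EQᵀ * K = K * EQ := by
    rw [hK, hEQ, fixProj, Matrix.transpose_smul, Matrix.smul_mul, Matrix.mul_smul,
      Matrix.transpose_sum, Finset.sum_mul, Finset.mul_sum]
    refine congrArg _ ((Fintype.sum_equiv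
      (Equiv.subtypeEquiv (MulAut.conj s).toEquiv fun q => hsQ q) _ _ fun q => ?_).trans
      (Fintype.sum_equiv (Equiv.inv Q) _ _ fun q => rfl)).symm
    simp only [Equiv.inv_apply]
    show J * A s * A (q : H) = (A ((s * (q : H) * s⁻¹)⁻¹))ᵀ * (J * A s)
    rw [← Matrix.mul_assoc, ← hJA, Matrix.mul_assoc J, Matrix.mul_assoc J, ← map_mul, ← map_mul,
      inv_mul_cancel_right]
  have hcomm : Eᵀ * K = K * E := by
    rw [hE, Matrix.transpose_mul, Matrix.transpose_mul]
    calc EQᵀ * Eyᵀ * Pᵀ * K = EQᵀ * (Eyᵀ * (Pᵀ * K)) := by simp only [Matrix.mul_assoc]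
      _ = EQᵀ * (Eyᵀ * K) * P := by rw [hPK]; simp only [Matrix.mul_assoc]
      _ = EQᵀ * K * Ey * P := by rw [hyK]; simp only [Matrix.mul_assoc]
      _ = K * (EQ * Ey * P) := by rw [hQK]; simp only [Matrix.mul_assoc]
      _ = K * (P * (Ey * EQ)) := by rw [c1.symm.eq, (c2.mul_right c3).eq]
  have hsE : A s⁻¹ * E = A s * E := by
    have hmem : (s * s)⁻¹ ∈ Q := inv_mem hs2
    have e : A (s * s)⁻¹ * E = E := by
      rw [hE, ← Matrix.mul_assoc, (hPcomm _).eq, Matrix.mul_assoc, c1.eq, ← Matrix.mul_assoc (A _),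
        hEQ, mul_fixProj A Q hmem]
    conv_rhs => rw [← e, ← Matrix.mul_assoc, ← map_mul, mul_inv_rev, mul_inv_cancel_left]
  have halt : (Eᵀ * K * E)ᵀ = -(Eᵀ * K * E) := by
    clear_value E
    have e : (A s)ᵀ * J = J * A s⁻¹ := by rw [hJA, inv_inv]
    have e2 : Kᵀ = -(J * A s⁻¹) := by
      rw [hK, Matrix.transpose_mul, hJT, Matrix.mul_neg, e]
    calc (Eᵀ * K * E)ᵀ = Eᵀ * (Kᵀ * E) := by
          rw [Matrix.transpose_mul (Eᵀ * K) E, Matrix.transpose_mul Eᵀ K, Matrix.transpose_transpose]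
      _ = -(Eᵀ * (J * (A s⁻¹ * E))) := by
          rw [e2, Matrix.neg_mul, Matrix.mul_neg, Matrix.mul_assoc J]
      _ = _ := by rw [hsE, hK]; simp only [Matrix.mul_assoc]
  obtain ⟨r, hr, htr⟩ := even_trace E K hEE hKdet hcomm halt
  refine ⟨r, hr, ?_⟩
  rw [← htr, hE, hEy, hEQ, cyc_fix_trace, mult]
  exact congrArg _ (Finset.sum_congr rfl fun i _ => Finset.sum_congr rfl fun q _ => by rw [hPtr])

end Cfsg.Agent.Block.TwoOrth
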