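import Mathlib
import Cfsg.Agent.Lib.Block.Residue
import Cfsg.Agent.Lib.Block.TwoOrth.Proj

/-!
A class of odd centraliser, fixed by a `2`-group of symmetries, on which a character of `2`-defect
zero is not divisible by `2`.
-/

set_option autoImplicit false
set_option linter.unusedSectionVars false

namespace Cfsg.Agent.Block.TwoOrth

open scoped ComplexConjugate
open Cfsg Cfsg.Agent.Char

universe u v

variable {N : Type u} [Group N] [Fintype N]

theorem exists_fixed_class {θ : N → ℂ} (hθ : IsIrrCharacter N θ) {d : ℕ} (hd : θ 1 = d)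
    (hdef : 2 ^ (Nat.card N).factorization 2 ∣ d) {P : Type v} [Group P] [Finite P]
    [MulAction P (ConjClasses N)] (hP : IsPGroup 2 P)
    (hinv : ∀ (σ : P) (g g' : N), σ • ConjClasses.mk g = ConjClasses.mk g' →
      θ g' * θ g'⁻¹ = θ g * θ g⁻¹ ∧ (Odd (Nat.card (Subgroup.centralizer ({g'} : Set N))) ↔
        Odd (Nat.card (Subgroup.centralizer ({g} : Set N))))) :
    ∃ y : N, Odd (Nat.card (Subgroup.centralizer ({y} : Set N))) ∧
      (∀ σ : P, σ • ConjClasses.mk y = ConjClasses.mk y) ∧ ¬ IsIntegral ℤ (θ y / 2) := by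
  classical
  haveI := Fintype.ofFinite (ConjClasses N)
  haveI : Fact (Nat.Prime 2) := ⟨Nat.prime_two⟩
  set v := (Nat.card N).factorization 2 with hv
  have hN0 : Nat.card N ≠ 0 := Nat.card_pos.ne'
  obtain ⟨d', rfl⟩ := hdef
  have hdN : 2 ^ v * d' ∣ Nat.card N := IsIrr.degree_dvd_card hθ hd
  set M := ordCompl[2] (Nat.card N) with hM
  have hNM : 2 ^ v * M = Nat.card N := Nat.ordProj_mul_ordCompl_eq_self _ _
  have hM' : ¬ 2 ∣ M := Nat.not_dvd_ordCompl Nat.prime_two hN0
  have hd' : ¬ 2 ∣ d' := fun h => hM' (h.trans ((Nat.mul_dvd_mul_iff_left (pow_pos two_pos v)).mp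
    (hNM.symm ▸ hdN)))
  let R := integralClosure ℤ ℂ
  let π := Ideal.Quotient.mk (Ideal.span {(2 : R)})
  let Θ : N → R := fun g => ⟨θ g, IsChar.isIntegral (IsIrr.isCharacter hθ) g⟩
  have hπ2 : π (2 : R) = 0 :=
    Ideal.Quotient.eq_zero_iff_mem.mpr (Ideal.mem_span_singleton_self _)
  have hodd : ∀ k : ℕ, ¬ 2 ∣ k → π (k : R) = 1 := fun k hk => by
    obtain ⟨j, rfl⟩ : Odd k := Nat.odd_iff.mpr (by omega)
    rw [Nat.cast_add, Nat.cast_mul, Nat.cast_ofNat, Nat.cast_one, map_add, map_mul, hπ2,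
      zero_mul, zero_add, map_one]
  have hone : (1 : R ⧸ Ideal.span {(2 : R)}) ≠ 0 := fun h => by
    obtain ⟨c, hc⟩ := Ideal.mem_span_singleton.mp (Ideal.Quotient.eq_zero_iff_mem.mp
      (show π 1 = 0 by rw [map_one]; exact h))
    have hc' : (1 : ℂ) = 2 * (c : ℂ) := congrArg Subtype.val hc
    have h2 : IsIntegral ℤ (((1 : ℕ) : ℂ) / ((2 : ℕ) : ℂ)) := by
      have : ((1 : ℕ) : ℂ) / ((2 : ℕ) : ℂ) = (c : ℂ) := by push_cast; linear_combination hc' / 2
      rw [this]; exact c.2
    exact absurd (nat_dvd_of_isIntegral_div two_ne_zero h2) (by norm_num)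
  let k : N → ℕ := fun g => (Subgroup.centralizer ({g} : Set N)).index
  -- the summand of one class
  have key : ∀ g : N, ∃ T : R, (T : ℂ) * (2 : ℂ) ^ v = (k g : ℂ) * (θ g * θ g⁻¹) ∧
      π T = if Odd (Nat.card (Subgroup.centralizer ({g} : Set N))) then π (Θ g * Θ g⁻¹) else 0 := by
    intro g
    have hck : Nat.card (Subgroup.centralizer ({g} : Set N)) * k g = Nat.card N :=
      Subgroup.card_mul_index _
    have hk0 : k g ≠ 0 := Subgroup.index_ne_zero_of_finite
    have hc0 : Nat.card (Subgroup.centralizer ({g} : Set N)) ≠ 0 := Nat.card_pos.ne'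
    set k' := ordCompl[2] (k g) with hk'
    have hk'2 : ¬ 2 ∣ k' := Nat.not_dvd_ordCompl Nat.prime_two hk0
    have hkk : 2 ^ (k g).factorization 2 * k' = k g := Nat.ordProj_mul_ordCompl_eq_self _ _
    have hsum : (Nat.card (Subgroup.centralizer ({g} : Set N))).factorization 2 +
        (k g).factorization 2 = v := by
      rw [hv, ← hck, Nat.factorization_mul hc0 hk0, Finsupp.add_apply]
    by_cases hc : Odd (Nat.card (Subgroup.centralizer ({g} : Set N)))
    · have h0 : (Nat.card (Subgroup.centralizer ({g} : Set N))).factorization 2 = 0 :=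
        Nat.factorization_eq_zero_of_not_dvd (by obtain ⟨j, hj⟩ := hc; omega)
      refine ⟨(k' : R) * (Θ g * Θ g⁻¹), ?_, ?_⟩
      · rw [← hkk, show (k g).factorization 2 = v by omega]
        push_cast
        ring
      · rw [if_pos hc, map_mul, hodd k' hk'2, one_mul]
    · have hlt : (k g).factorization 2 < v := by
        have : 0 < (Nat.card (Subgroup.centralizer ({g} : Set N))).factorization 2 :=
          Nat.prime_two.factorization_pos_of_dvd hc0
            (even_iff_two_dvd.mp (Nat.not_odd_iff_even.mp hc))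
        omega
      set ω : ℂ := (k g : ℂ) * θ g / θ 1 with hω
      have hωi : IsIntegral ℤ ω := IsIrr.isIntegral_centralChar hθ g
      let W : R := ⟨ω, hωi⟩
      let W' : R := ⟨conj ω, hωi.map (starRingEnd ℂ).toIntAlgHom⟩
      have hθ1 : θ 1 ≠ 0 := IsIrr.one_ne_zero hθ
      have hinvg : θ g⁻¹ = conj (θ g) := IsIrr.apply_inv hθ g
      have hkθ : (k g : ℂ) * θ g = ω * θ 1 := by rw [hω, div_mul_cancel₀ _ hθ1]
      have hkθ' : (k g : ℂ) * θ g⁻¹ = conj ω * θ 1 := by
        rw [hinvg, ← map_natCast (starRingEnd ℂ) (k g), ← map_mul, hkθ, map_mul, hd, map_natCast]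
      refine ⟨W * ((d' : R) * Θ g⁻¹), ?_, ?_⟩
      · show ω * ((d' : ℂ) * θ g⁻¹) * 2 ^ v = _
        rw [show (k g : ℂ) * (θ g * θ g⁻¹) = (k g : ℂ) * θ g * θ g⁻¹ by ring, hkθ, hd]
        push_cast
        ring
      · have e : (k' : R) * (W * ((d' : R) * Θ g⁻¹)) =
            W * W' * ((d' : R) * (d' : R)) *
              ((2 : R) ^ (v - (k g).factorization 2)) := by
          refine Subtype.ext ?_
          show (k' : ℂ) * (ω * ((d' : ℂ) * θ g⁻¹)) =
            ω * conj ω * ((d' : ℂ) * (d' : ℂ)) * (2 : ℂ) ^ (v - (k g).factorization 2)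
          have hp : (2 : ℂ) ^ (k g).factorization 2 ≠ 0 := pow_ne_zero _ two_ne_zero
          refine mul_left_cancel₀ hp ?_
          have hk2 : (2 : ℂ) ^ (k g).factorization 2 * (k' : ℂ) = (k g : ℂ) := by exact_mod_cast hkk
          calc (2 : ℂ) ^ (k g).factorization 2 * ((k' : ℂ) * (ω * ((d' : ℂ) * θ g⁻¹)))
              = ω * (d' : ℂ) * ((k g : ℂ) * θ g⁻¹) := by rw [← hk2]; ring
            _ = _ := by
                rw [hkθ', hd]
                push_cast
                rw [← Nat.add_sub_cancel' hlt.le, Nat.add_sub_cancel_left, pow_add]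
                ring
        have e' := congrArg π e
        rw [map_mul, hodd k' hk'2, one_mul, map_mul (f := π) (W * W' * _), map_pow, hπ2,
          zero_pow (by omega), mul_zero] at e'
        rw [if_neg hc, e']
  choose T hT hTπ using key
  -- the class function
  let F : ConjClasses N → R ⧸ Ideal.span {(2 : R)} := fun K => π (T (Quotient.out K))
  have hout : ∀ g : N, IsConj g (Quotient.out (ConjClasses.mk g)) := fun g =>
    ConjClasses.mk_eq_mk_iff_isConj.mp (Quotient.out_eq (ConjClasses.mk g)).symm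
  have hval : ∀ K : ConjClasses N, F K =
      if Odd (Nat.card (Subgroup.centralizer ({Quotient.out K} : Set N))) then
        π (Θ (Quotient.out K) * Θ (Quotient.out K)⁻¹) else 0 := fun K => hTπ _
  have hsumF : ∑ K, F K = 1 := by
    have h1 : ((∑ K : ConjClasses N, T (Quotient.out K) : R) : ℂ) * (2 : ℂ) ^ v = (Nat.card N : ℂ) := by
      rw [AddSubmonoidClass.coe_finsetSum, Finset.sum_mul]
      have h2 := classInner_self_irr hθ
      rw [classInner, inv_mul_eq_iff_eq_mul₀ (Nat.cast_ne_zero.mpr hN0), mul_one] at h2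
      rw [← h2, ← Finset.sum_fiberwise Finset.univ (ConjClasses.mk : N → ConjClasses N)]
      refine Finset.sum_congr rfl fun K _ => ?_
      rw [hT]
      obtain ⟨g, rfl⟩ : ∃ g, ConjClasses.mk g = K := ⟨Quotient.out K, Quotient.out_eq K⟩
      set x := Quotient.out (ConjClasses.mk g) with hx
      have hgx : ConjClasses.mk g = ConjClasses.mk x := (Quotient.out_eq (ConjClasses.mk g)).symm
      rw [hgx, conjClass_eq_fiber x, Finset.sum_congr rfl fun z hz => show θ z * conj (θ z) =
        θ x * θ x⁻¹ by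
          rw [← IsClass.eq_of_isConj (IsIrr.classFun hθ) (Finset.mem_filter.mp hz).2,
            IsIrr.apply_inv hθ x], Finset.sum_const, card_conjClass_finset, nsmul_eq_mul]
    have h3 : (∑ K : ConjClasses N, T (Quotient.out K) : R) = (M : R) := by
      refine Subtype.ext (mul_right_cancel₀ (pow_ne_zero v (two_ne_zero : (2 : ℂ) ≠ 0)) ?_)
      rw [h1, ← hNM]
      push_cast
      ring
    calc ∑ K, F K = π (∑ K : ConjClasses N, T (Quotient.out K)) := (map_sum π _ _).symm
      _ = 1 := by rw [h3, hodd M hM']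
  have hmk : ∀ K : ConjClasses N, ConjClasses.mk (Quotient.out K) = K := fun K => Quotient.out_eq K
  have hFinv : ∀ (σ : P) (K : ConjClasses N), F (σ • K) = F K := by
    intro σ K
    obtain ⟨h1, h2⟩ := hinv σ (Quotient.out K) (Quotient.out (σ • K)) (by rw [hmk, hmk])
    rw [hval, hval]
    by_cases hc : Odd (Nat.card (Subgroup.centralizer ({Quotient.out K} : Set N)))
    · rw [if_pos hc, if_pos (h2.mpr hc)]
      exact congrArg π (Subtype.ext h1)
    · rw [if_neg hc, if_neg (mt h2.mp hc)]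
  rw [sum_eq_sum_fixed (fun x => by
    rw [two_nsmul, ← two_mul]
    have : (2 : R ⧸ Ideal.span {(2 : R)}) = 0 := by rw [← hπ2]; rfl
    rw [this, zero_mul]) hP F hFinv] at hsumF
  obtain ⟨K, hK, hK0⟩ := exists_ne_zero_of_finsum_mem_ne_zero (hsumF.symm ▸ hone)
  rw [hval] at hK0
  split_ifs at hK0 with hc
  · refine ⟨Quotient.out K, hc, fun σ => ?_, fun hint => hK0 ?_⟩
    · rw [hmk]; exact hK σ
    · rw [show Θ (Quotient.out K) = (2 : R) * ⟨θ (Quotient.out K) / 2, hint⟩ from
        Subtype.ext (by show θ (Quotient.out K) = 2 * (θ (Quotient.out K) / 2); ring), map_mul,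
        map_mul, hπ2, zero_mul, zero_mul]
  · exact absurd rfl hK0

/-- Some multiplicity on `⟨y⟩` is odd when the value at `y` is not divisible by `2`. -/
theorem exists_odd_mult {θ : N → ℂ} (hθ : IsCharacter N θ) (y : N)
    (hy : ¬ IsIntegral ℤ (θ y / 2)) :
    ∃ z : ℂ, z ^ orderOf y = 1 ∧
      ∃ m : ℕ, Odd m ∧ (orderOf y : ℂ)⁻¹ * ∑ i ∈ Finset.range (orderOf y), z ^ i * θ (y ^ i) =
        (m : ℂ) := by
  classical
  set o := orderOf y with ho
  have ho0 : 0 < o := orderOf_pos y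
  set ζ := Complex.exp (2 * Real.pi * Complex.I / (o : ℂ))
  have hζ : IsPrimitiveRoot ζ o := Complex.isPrimitiveRoot_exp o ho0.ne'
  have hm : ∀ j : ℕ, ∃ m : ℕ,
      (o : ℂ)⁻¹ * ∑ i ∈ Finset.range o, (ζ ^ j) ^ i * θ (y ^ i) = (m : ℂ) := by
    intro j
    obtain ⟨m, hm⟩ := mult_nat hθ y ⊥ (fun q hq => by
      rw [Subgroup.mem_bot.mp hq, one_mul, mul_one]) (ζ ^ j) (by
      rw [← ho, ← pow_mul, mul_comm, pow_mul, hζ.pow_eq_one, one_pow])
    refine ⟨m, ?_⟩
    rw [← hm, mult]
    simp [← ho, mul_comm]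
    left
    refine Finset.sum_congr rfl fun x _ => ?_
    rw [show ((default : (⊥ : Subgroup N)) : N) = 1 from Subgroup.mem_bot.mp (Subtype.mem _), mul_one]
  choose m hm using hm
  by_contra hall
  have hev : ∀ j, Even (m j) := fun j => by
    by_contra h
    exact hall ⟨ζ ^ j, by rw [← pow_mul, mul_comm, pow_mul, hζ.pow_eq_one, one_pow],
      m j, Nat.not_even_iff_odd.mp h, hm j⟩
  choose r hr using fun j => (hev j).two_dvd
  refine hy ?_
  set w := ζ ^ (o - 1) with hw
  have hsum : θ y = ∑ j ∈ Finset.range o, w ^ j * (m j : ℂ) := by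
    simp only [← hm, Finset.mul_sum]
    rw [Finset.sum_comm]
    have hin : ∀ i ∈ Finset.range o, (∑ j ∈ Finset.range o,
        w ^ j * ((o : ℂ)⁻¹ * ((ζ ^ j) ^ i * θ (y ^ i)))) =
        (if o ∣ (o - 1) + i then θ (y ^ i) else 0) := by
      intro i _
      rw [Finset.sum_congr rfl fun j _ => show w ^ j * ((o : ℂ)⁻¹ * ((ζ ^ j) ^ i * θ (y ^ i))) =
        (o : ℂ)⁻¹ * θ (y ^ i) * (ζ ^ (o - 1 + i)) ^ j by
          rw [hw, pow_add, mul_pow, ← pow_mul ζ j i, mul_comm j i, pow_mul ζ i j]; ring,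
        ← Finset.mul_sum]
      split_ifs with hdvd
      · rw [(hζ.pow_eq_one_iff_dvd _).mpr hdvd]
        simp only [one_pow, Finset.sum_const, Finset.card_range, nsmul_eq_mul, mul_one]
        have : (o : ℂ) ≠ 0 := Nat.cast_ne_zero.mpr ho0.ne'
        field_simp
      · have hne : ζ ^ (o - 1 + i) ≠ 1 := fun e => hdvd ((hζ.pow_eq_one_iff_dvd _).mp e)
        rw [geom_sum_eq hne, show (ζ ^ (o - 1 + i)) ^ o = 1 by
          rw [← pow_mul, mul_comm, pow_mul, hζ.pow_eq_one, one_pow], sub_self,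
          zero_div, mul_zero]
    rw [Finset.sum_congr rfl hin, Finset.sum_eq_single (1 % o)]
    · rw [if_pos, ho, pow_mod_orderOf, pow_one]
      rw [Nat.dvd_iff_mod_eq_zero, Nat.add_mod_mod, Nat.sub_add_cancel ho0, Nat.mod_self]
    · intro i hi hne
      rw [if_neg]
      intro hdvd
      refine hne ?_
      have hmod : 0 ≡ o - 1 + i [MOD o] := (Nat.modEq_zero_iff_dvd.mpr hdvd).symm
      have h2 : (o - 1) + 1 ≡ o - 1 + i [MOD o] := by
        rw [Nat.sub_add_cancel ho0]
        exact (Nat.modEq_zero_iff_dvd.mpr dvd_rfl).trans hmod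
      have h3 := Nat.ModEq.add_left_cancel' _ h2
      rw [Nat.ModEq, Nat.mod_eq_of_lt (Finset.mem_range.mp hi)] at h3
      exact h3.symm
    · exact fun h => absurd (Finset.mem_range.mpr (Nat.mod_lt _ ho0)) h
  rw [hsum, Finset.sum_div]
  refine IsIntegral.sum _ fun j _ => ?_
  rw [hr j, Nat.cast_mul, Nat.cast_ofNat, show w ^ j * (2 * (r j : ℂ)) / 2 = w ^ j * (r j : ℂ) by
    ring]
  refine IsIntegral.mul ?_ (isIntegral_algebraMap (R := ℤ) (x := (r j : ℤ)))
  refine isIntegral_of_pow_eq_one ho0 ?_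
  rw [hw, ← pow_mul, ← pow_mul, show (o - 1) * (j * o) = o * ((o - 1) * j) by ring, pow_mul,
    hζ.pow_eq_one, one_pow]

end Cfsg.Agent.Block.TwoOrth
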