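import Mathlib
import Cfsg.Agent.Lib.Char.ExtendMain
import Cfsg.Agent.Lib.Char.Induce
import Cfsg.Agent.Lib.Block.TwoOrth.DefectClass

/-!
A real character of multiplicity one over a character of `2`-defect zero which is conjugate to its
complex conjugate, when the quotient is a `2`-group and the orbit has at most two members.
-/

set_option autoImplicit false
set_option linter.unusedSectionVars false

namespace Cfsg.Agent.Block.TwoOrth

open scoped ComplexConjugate
open Cfsg Cfsg.Agent.Char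

universe u

variable {G : Type u} [Group G] [Fintype G]

/-- Complex conjugation pairs the constituents: the fixed ones carry the parity. -/
theorem exists_fixed_odd {α : Type*} [Fintype α] (σ : α → α) (hσ : ∀ a, σ (σ a) = a) (f : α → ℕ)
    (hf : ∀ a, f (σ a) = f a) (hodd : Odd (∑ a, f a)) : ∃ a, σ a = a ∧ Odd (f a) := by
  classical
  by_contra hall
  have hev : ∀ a, σ a = a → (f a : ZMod 2) = 0 := fun a ha => by
    rw [ZMod.natCast_eq_zero_iff_even]
    exact Nat.not_odd_iff_even.mp fun h => hall ⟨a, ha, h⟩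
  have h0 : ∑ a, (f a : ZMod 2) = 0 :=
    Finset.sum_involution (fun a _ => σ a) (fun a _ => by rw [hf]; exact CharTwo.add_self_eq_zero _)
      (fun a _ hne h => hne (hev a h)) (fun a _ => Finset.mem_univ _) (fun a _ => hσ a)
  rw [← Nat.cast_sum, ZMod.natCast_eq_zero_iff_even] at h0
  exact Nat.not_even_iff_odd.mpr hodd h0

theorem mult_conj {χ : G → ℂ} (hχ : IsIrrCharacter G χ) (y s : G) (Q : Subgroup G)
    (hQ : ∀ q ∈ Q, q * y = y * q) (hsy : s * y * s⁻¹ = y⁻¹) (hsQ : ∀ q, q ∈ Q ↔ s * q * s⁻¹ ∈ Q)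
    (z : ℂ) : mult y Q z (fun g => conj (χ g)) = mult y Q z χ := by
  classical
  letI := Fintype.ofFinite Q
  simp only [mult]
  refine congrArg _ (Finset.sum_congr rfl fun i _ => ?_)
  rw [← Finset.mul_sum, ← Finset.mul_sum]
  congr 1
  refine Fintype.sum_equiv ((Equiv.inv Q).trans
    (Equiv.subtypeEquiv (MulAut.conj s).toEquiv fun q => hsQ q)) _ _ fun q => ?_
  show conj (χ (y ^ i * (q : G))) = χ (y ^ i * (s * (q : G)⁻¹ * s⁻¹))
  rw [← IsIrr.apply_inv hχ, ← IsIrr.classFun hχ (y ^ i * (q : G))⁻¹ s, mul_inv_rev]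
  have h1 : s * (y ^ i)⁻¹ * s⁻¹ = y ^ i := by
    rw [show s * (y ^ i)⁻¹ * s⁻¹ = (s * y ^ i * s⁻¹)⁻¹ by group, ← conj_pow, hsy, inv_pow, inv_inv]
  have h2 : Commute ((q : G)⁻¹) ((y ^ i)⁻¹) :=
    ((show Commute (q : G) y from hQ q q.2).inv_inv.pow_right i |> fun h => by rwa [inv_pow] at h)
  rw [h2.eq, show s * ((y ^ i)⁻¹ * (q : G)⁻¹) * s⁻¹ =
    s * (y ^ i)⁻¹ * s⁻¹ * (s * (q : G)⁻¹ * s⁻¹) by group, h1]

variable (N : Subgroup G) [hN : N.Normal] [Fintype N]

theorem core (h2 : IsPGroup 2 (G ⧸ N)) {θ : N → ℂ} (hθ : IsIrrCharacter N θ) {d : ℕ}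
    (hd : θ 1 = d) (hdef : 2 ^ (Nat.card N).factorization 2 ∣ d)
    (hg0 : ∃ g : G, conjN N g θ = fun n => conj (θ n))
    (horb : ∀ g : G, conjN N g θ = θ ∨ conjN N g θ = fun n => conj (θ n)) :
    ∃ ψ : G → ℂ, IsIrrCharacter G ψ ∧ (∀ g, conj (ψ g) = ψ g) ∧
      classInner (fun n : N => ψ n) θ = 1 ∧
      ∃ (y s : G) (Q : Subgroup G), (∀ q ∈ Q, q * y = y * q) ∧ s * y * s⁻¹ = y⁻¹ ∧
        (∀ q, q ∈ Q ↔ s * q * s⁻¹ ∈ Q) ∧ s * s ∈ Q ∧
        ∃ z : ℂ, z ^ orderOf y = 1 ∧ ∃ m : ℕ, Odd m ∧ mult y Q z ψ = (m : ℂ) := by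
  classical
  haveI : Fact (Nat.Prime 2) := ⟨Nat.prime_two⟩
  obtain ⟨a, ha⟩ := IsPGroup.iff_card.mp h2
  have hidx : N.index = 2 ^ a := ha
  -- the group of symmetries
  let mapC : (N ≃* N) → Equiv.Perm (ConjClasses N) := fun e =>
    { toFun := ConjClasses.map (e : N →* N)
      invFun := ConjClasses.map (e.symm : N →* N)
      left_inv := fun K => by
        obtain ⟨g, rfl⟩ : ∃ g, ConjClasses.mk g = K := ConjClasses.mk_surjective K
        show ConjClasses.mk (e.symm (e g)) = _
        rw [e.symm_apply_apply]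
      right_inv := fun K => by
        obtain ⟨g, rfl⟩ : ∃ g, ConjClasses.mk g = K := ConjClasses.mk_surjective K
        show ConjClasses.mk (e (e.symm g)) = _
        rw [e.apply_symm_apply] }
  let Φ : G →* Equiv.Perm (ConjClasses N) := MonoidHom.mk'
    (fun g => mapC (MulAut.conjNormal g)) fun g h => by
      refine Equiv.ext fun K => ?_
      obtain ⟨x, rfl⟩ : ∃ x, ConjClasses.mk x = K := ConjClasses.mk_surjective K
      show ConjClasses.mk (MulAut.conjNormal (g * h) x) =
        ConjClasses.mk (MulAut.conjNormal g (MulAut.conjNormal h x))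
      rw [map_mul]; rfl
  have hΦN : N ≤ Φ.ker := fun m hm => by
    refine Equiv.ext fun K => ?_
    obtain ⟨x, rfl⟩ : ∃ x, ConjClasses.mk x = K := ConjClasses.mk_surjective K
    show ConjClasses.mk (MulAut.conjNormal m x) = ConjClasses.mk x
    refine (ConjClasses.mk_eq_mk_iff_isConj.mpr (isConj_iff.mpr ⟨⟨m, hm⟩, ?_⟩)).symm
    exact Subtype.ext (MulAut.conjNormal_apply m x).symm
  let Φ' : G ⧸ N →* Equiv.Perm (ConjClasses N) := QuotientGroup.lift N Φ hΦN
  let ιp : Equiv.Perm (ConjClasses N) :=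
    Function.Involutive.toPerm (fun K => Quotient.map (fun g : N => g⁻¹) (fun g h hgh => by
      obtain ⟨c, hc⟩ := isConj_iff.mp hgh
      exact isConj_iff.mpr ⟨c, by rw [← hc]; group⟩) K) fun K => by
        obtain ⟨g, rfl⟩ : ∃ g, ConjClasses.mk g = K := ConjClasses.mk_surjective K
        show ConjClasses.mk g⁻¹⁻¹ = _
        rw [inv_inv]
  have hι : ∀ g : N, ιp (ConjClasses.mk g) = ConjClasses.mk g⁻¹ := fun g => rfl
  let Ψ : ℤˣ →* Equiv.Perm (ConjClasses N) :=
    { toFun := fun e => if e = 1 then 1 else ιp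
      map_one' := if_pos rfl
      map_mul' := fun e f => by
        rcases Int.units_eq_one_or e with rfl | rfl <;> rcases Int.units_eq_one_or f with rfl | rfl
        · simp
        · simp
        · simp
        · simp only [if_neg (show ¬ (-1 : ℤˣ) = 1 by decide)]
          refine Equiv.ext fun K => ?_
          obtain ⟨g, rfl⟩ : ∃ g, ConjClasses.mk g = K := ConjClasses.mk_surjective K
          simp [hι] }
  have hcomm : ∀ (x : G ⧸ N) (e : ℤˣ), Commute (Φ' x) (Ψ e) := by
    intro x e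
    induction x using QuotientGroup.induction_on with
    | H g =>
      rcases Int.units_eq_one_or e with rfl | rfl
      · simp
      refine Equiv.ext fun K => ?_
      obtain ⟨x, rfl⟩ : ∃ x, ConjClasses.mk x = K := ConjClasses.mk_surjective K
      show ConjClasses.mk (MulAut.conjNormal g x⁻¹) = ConjClasses.mk (MulAut.conjNormal g x)⁻¹
      rw [map_inv]
  let act : (G ⧸ N) × ℤˣ →* Equiv.Perm (ConjClasses N) := Φ'.noncommCoprod Ψ hcomm
  letI : MulAction ((G ⧸ N) × ℤˣ) (ConjClasses N) := MulAction.compHom _ act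
  have hP : IsPGroup 2 ((G ⧸ N) × ℤˣ) := IsPGroup.of_card (n := a + 1) (by
    rw [Nat.card_prod, ha, Nat.card_eq_fintype_card, Fintype.card_units_int, pow_succ])
  have hsmul : ∀ (g : G) (x : N), ((g : G ⧸ N), (1 : ℤˣ)) • ConjClasses.mk x =
      ConjClasses.mk (MulAut.conjNormal g x) := fun g x => by
    show (Φ' (g : G ⧸ N) * Ψ 1) (ConjClasses.mk x) = _
    rw [map_one, mul_one]; rfl
  have hsmulι : ∀ x : N, ((1 : G ⧸ N), (-1 : ℤˣ)) • ConjClasses.mk x = ConjClasses.mk x⁻¹ :=
    fun x => by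
      show (Φ' 1 * Ψ (-1)) (ConjClasses.mk x) = _
      rw [map_one, one_mul]; rfl
  have hF : ∀ g g' : N, IsConj g g' → θ g' * θ g'⁻¹ = θ g * θ g⁻¹ ∧
      (Odd (Nat.card (Subgroup.centralizer ({g'} : Set N))) ↔
        Odd (Nat.card (Subgroup.centralizer ({g} : Set N)))) := by
    intro g g' h
    obtain ⟨c, rfl⟩ := isConj_iff.mp h
    refine ⟨?_, ?_⟩
    · rw [IsIrr.classFun hθ g c, show (c * g * c⁻¹)⁻¹ = c * g⁻¹ * c⁻¹ by group,
        IsIrr.classFun hθ g⁻¹ c]
    · rw [iff_iff_eq]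
      congr 1
      refine Nat.card_congr ((MulAut.conj c⁻¹).toEquiv.subtypeEquiv fun x => ?_)
      simp only [Subgroup.mem_centralizer_singleton_iff, MulEquiv.toEquiv_eq_coe,
        MulEquiv.coe_toEquiv, MulAut.conj_apply, inv_inv]
      constructor
      · intro h
        calc c⁻¹ * x * c * g = c⁻¹ * (x * (c * g * c⁻¹)) * c := by group
          _ = c⁻¹ * ((c * g * c⁻¹) * x) * c := by rw [h]
          _ = _ := by group
      · intro h
        calc x * (c * g * c⁻¹) = c * (c⁻¹ * x * c * g) * c⁻¹ := by group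
          _ = c * (g * (c⁻¹ * x * c)) * c⁻¹ := by rw [h]
          _ = _ := by group
  have hcent : ∀ (e : N ≃* N) (x : N), Nat.card (Subgroup.centralizer ({e x} : Set N)) =
      Nat.card (Subgroup.centralizer ({x} : Set N)) := fun e x => by
    refine Nat.card_congr (e.symm.toEquiv.subtypeEquiv fun z => ?_)
    simp only [Subgroup.mem_centralizer_singleton_iff, MulEquiv.toEquiv_eq_coe,
      MulEquiv.coe_toEquiv]
    constructor
    · intro h
      refine e.injective ?_
      rw [map_mul, map_mul, e.apply_symm_apply, h]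
    · intro h
      rw [← e.apply_symm_apply z, ← map_mul, ← map_mul, h]
  obtain ⟨y, hyodd, hyfix, hy2⟩ := exists_fixed_class hθ hd hdef hP (fun σ g g' hσ => by
    obtain ⟨q, e⟩ := σ
    induction q using QuotientGroup.induction_on with
    | H c =>
      have h1 : θ (MulAut.conjNormal c g) * θ (MulAut.conjNormal c g⁻¹) = θ g * θ g⁻¹ := by
        have e1 : ∀ w : N, θ (MulAut.conjNormal c w) = conjN N c θ w := fun w => by
          rw [conjN_eq_comp]; rfl
        rw [e1, e1]
        rcases horb c with h | h <;> rw [h]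
        show conj (θ g) * conj (θ g⁻¹) = _
        rw [IsIrr.apply_inv hθ g, Complex.conj_conj, mul_comm]
      rcases Int.units_eq_one_or e with rfl | rfl
      · rw [hsmul, ConjClasses.mk_eq_mk_iff_isConj] at hσ
        obtain ⟨e2, e3⟩ := hF _ _ hσ
        refine ⟨?_, ?_⟩
        · rw [e2, ← map_inv, h1]
        · rw [e3, hcent]
      · rw [show (((c : G ⧸ N), (-1 : ℤˣ))) = ((c : G ⧸ N), (1 : ℤˣ)) * ((1 : G ⧸ N), (-1 : ℤˣ)) by
          simp, mul_smul, hsmulι, hsmul, ConjClasses.mk_eq_mk_iff_isConj] at hσ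
        obtain ⟨e2, e3⟩ := hF _ _ hσ
        refine ⟨?_, ?_⟩
        · rw [e2, ← map_inv, inv_inv, mul_comm, h1]
        · rw [e3, hcent, Subgroup.centralizer_eq_comap_stabilizer,
            ← Subgroup.centralizer_eq_comap_stabilizer]
          have : Subgroup.centralizer ({g⁻¹} : Set N) = Subgroup.centralizer ({g} : Set N) := by
            ext w
            rw [Subgroup.mem_centralizer_singleton_iff, Subgroup.mem_centralizer_singleton_iff]
            exact Commute.inv_right_iff
          rw [this])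
  -- the centraliser of `y`
  set D := Subgroup.centralizer ({(y : G)} : Set G) with hD
  have hstab : ∀ g : G, ∃ n : N, (n : G) * g ∈ D := by
    intro g
    have h := hyfix ((g : G ⧸ N), 1)
    rw [hsmul, ConjClasses.mk_eq_mk_iff_isConj] at h
    obtain ⟨n, hn⟩ := isConj_iff.mp h
    refine ⟨n, ?_⟩
    have hn' : (n : G) * (g * (y : G) * g⁻¹) * (n : G)⁻¹ = y := by
      have := congrArg Subtype.val hn
      simpa [MulAut.conjNormal_apply] using this
    rw [hD, Subgroup.mem_centralizer_singleton_iff]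
    calc (n : G) * g * y = ((n : G) * (g * (y : G) * g⁻¹) * (n : G)⁻¹) * ((n : G) * g) := by group
      _ = _ := by rw [hn']
  obtain ⟨n₀, hn₀⟩ : ∃ n : N, n * y * n⁻¹ = y⁻¹ := by
    have h := hyfix (1, -1)
    rw [hsmulι, ConjClasses.mk_eq_mk_iff_isConj] at h
    exact isConj_iff.mp h.symm
  have hn₀' : (n₀ : G) * y * (n₀ : G)⁻¹ = (y : G)⁻¹ := by
    simpa using congrArg Subtype.val hn₀
  -- `|D|`
  let r : D →* G ⧸ N := (QuotientGroup.mk' N).comp D.subtype
  have hrs : Function.Surjective r := fun x => by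
    induction x using QuotientGroup.induction_on with
    | H g =>
      obtain ⟨n, hn⟩ := hstab g
      refine ⟨⟨_, hn⟩, ?_⟩
      show (((n : G) * g : G) : G ⧸ N) = (g : G ⧸ N)
      rw [QuotientGroup.mk_mul, (QuotientGroup.eq_one_iff (n : G)).mpr n.2, one_mul]
  have hker : Nat.card r.ker = Nat.card (Subgroup.centralizer ({y} : Set N)) := by
    refine Nat.card_congr
      { toFun := fun x => ⟨⟨((x : D) : G), (QuotientGroup.eq_one_iff _).mp x.2⟩, by
          rw [Subgroup.mem_centralizer_singleton_iff]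
          exact Subtype.ext (Subgroup.mem_centralizer_singleton_iff.mp (x : D).2)⟩
        invFun := fun w => ⟨⟨((w : N) : G), by
          rw [hD, Subgroup.mem_centralizer_singleton_iff]
          exact congrArg Subtype.val (Subgroup.mem_centralizer_singleton_iff.mp w.2)⟩,
          (QuotientGroup.eq_one_iff _).mpr (w : N).2⟩
        left_inv := fun x => rfl
        right_inv := fun w => rfl }
  have hDcard : Nat.card D = 2 ^ a * Nat.card (Subgroup.centralizer ({y} : Set N)) := by
    rw [Subgroup.card_eq_card_quotient_mul_card_subgroup r.ker,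
      Nat.card_congr (QuotientGroup.quotientKerEquivOfSurjective r hrs).toEquiv, ha, hker]
  obtain ⟨P⟩ := (inferInstance : Nonempty (Sylow 2 D))
  have hPcard : Nat.card P = 2 ^ a := by
    rw [Sylow.card_eq_multiplicity, hDcard, Nat.factorization_mul (pow_ne_zero _ two_ne_zero)
      Nat.card_pos.ne', Finsupp.add_apply, Nat.prime_two.factorization_pow, Finsupp.single_eq_same,
      Nat.factorization_eq_zero_of_not_dvd (by obtain ⟨j, hj⟩ := hyodd; omega), add_zero]
  set Q : Subgroup G := (P : Subgroup D).map D.subtype with hQdef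
  have hQD : Q ≤ D := Subgroup.map_subtype_le _
  have hQcard : Nat.card Q = 2 ^ a := by
    rw [hQdef, Subgroup.card_subtype]; exact hPcard
  have hQy : ∀ q ∈ Q, q * (y : G) = (y : G) * q := fun q hq =>
    Subgroup.mem_centralizer_singleton_iff.mp (hQD hq)
  have hmax : ∀ R : Subgroup G, R ≤ D → Q ≤ R → IsPGroup 2 R → R ≤ Q := by
    intro R hRD hQR hR
    obtain ⟨j, hj⟩ := IsPGroup.iff_card.mp hR
    have hdvd : 2 ^ j ∣ Nat.card D := hj ▸ Subgroup.card_dvd_of_le hRD
    rw [hDcard] at hdvd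
    have hja : 2 ^ j ∣ 2 ^ a :=
      ((Nat.coprime_two_left.mpr hyodd).pow_left j).dvd_of_dvd_mul_right hdvd
    exact (Subgroup.eq_of_le_of_card_ge hQR (by
      rw [hj, hQcard]; exact Nat.le_of_dvd (pow_pos two_pos a) hja)).ge
  -- the inverting element
  have hnD : ∀ x : G, x ∈ D ↔ (n₀ : G) * x * (n₀ : G)⁻¹ ∈ D := fun x => by
    rw [hD, Subgroup.mem_centralizer_singleton_iff, Subgroup.mem_centralizer_singleton_iff]
    have hy' : (y : G) = (n₀ : G) * (y : G)⁻¹ * (n₀ : G)⁻¹ := by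
      rw [show (n₀ : G) * (y : G)⁻¹ * (n₀ : G)⁻¹ = ((n₀ : G) * y * (n₀ : G)⁻¹)⁻¹ by group, hn₀',
        inv_inv]
    conv_rhs => rw [hy']
    constructor
    · intro h
      have h' : x * (y : G)⁻¹ = (y : G)⁻¹ * x := (show Commute x (y : G) from h).inv_right.eq
      calc (n₀ : G) * x * (n₀ : G)⁻¹ * ((n₀ : G) * (y : G)⁻¹ * (n₀ : G)⁻¹)
          = (n₀ : G) * (x * (y : G)⁻¹) * (n₀ : G)⁻¹ := by group
        _ = (n₀ : G) * ((y : G)⁻¹ * x) * (n₀ : G)⁻¹ := by rw [h']
        _ = _ := by group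
    · intro h
      have h' : x * (y : G)⁻¹ = (y : G)⁻¹ * x := by
        calc x * (y : G)⁻¹ = (n₀ : G)⁻¹ * ((n₀ : G) * x * (n₀ : G)⁻¹ *
              ((n₀ : G) * (y : G)⁻¹ * (n₀ : G)⁻¹)) * (n₀ : G) := by group
          _ = _ := by rw [h]; group
      exact Commute.inv_right_iff.mp h'
  let cn : MulAut D :=
    { toFun := fun x => ⟨(n₀ : G) * x * (n₀ : G)⁻¹, (hnD x).mp x.2⟩
      invFun := fun x => ⟨(n₀ : G)⁻¹ * x * (n₀ : G), (hnD _).mpr (by
        simpa [mul_assoc] using x.2)⟩
      left_inv := fun x => Subtype.ext (by simp [mul_assoc])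
      right_inv := fun x => Subtype.ext (by simp [mul_assoc])
      map_mul' := fun x x' => Subtype.ext (by simp [mul_assoc]) }
  obtain ⟨e, he⟩ := MulAction.exists_smul_eq D (cn • P) P
  have hmem : ∀ x : D, x ∈ (P : Subgroup D) → e * cn x * e⁻¹ ∈ (P : Subgroup D) := by
    intro x hx
    have h1 : cn x ∈ ((cn • P : Sylow 2 D) : Subgroup D) := by
      rw [Sylow.pointwise_smul_def]
      exact Subgroup.smul_mem_pointwise_smul x cn _ hx
    have h2 : e * cn x * e⁻¹ ∈ ((e • (cn • P) : Sylow 2 D) : Subgroup D) := by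
      rw [Sylow.smul_def, Sylow.pointwise_smul_def]
      exact Subgroup.smul_mem_pointwise_smul (cn x) (MulAut.conj e) _ h1
    rwa [he] at h2
  set w : G := (e : G) * (n₀ : G) with hw
  have hwQ : ∀ q ∈ Q, w * q * w⁻¹ ∈ Q := by
    rintro q ⟨x, hx, rfl⟩
    refine ⟨_, hmem x hx, ?_⟩
    show (e : G) * ((n₀ : G) * (x : G) * (n₀ : G)⁻¹) * (e : G)⁻¹ = w * (x : G) * w⁻¹
    rw [hw]; group
  have hwy : w * (y : G) * w⁻¹ = (y : G)⁻¹ := by
    have he' : (e : G) * (y : G)⁻¹ = (y : G)⁻¹ * (e : G) :=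
      (show Commute (e : G) (y : G) from Subgroup.mem_centralizer_singleton_iff.mp e.2).inv_right.eq
    calc w * (y : G) * w⁻¹ = (e : G) * ((n₀ : G) * y * (n₀ : G)⁻¹) * (e : G)⁻¹ := by rw [hw]; group
      _ = _ := by rw [hn₀', he']; group
  set ow := orderOf w with how
  set r' := ordCompl[2] ow with hr'
  have hr'odd : Odd r' := Nat.not_even_iff_odd.mp fun h =>
    Nat.not_dvd_ordCompl Nat.prime_two (orderOf_pos w).ne' h.two_dvd
  set s := w ^ r' with hs
  have hws : ∀ k : ℕ, (∀ q ∈ Q, w ^ k * q * (w ^ k)⁻¹ ∈ Q) ∧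
      w ^ k * (y : G) * (w ^ k)⁻¹ = (if Even k then (y : G) else (y : G)⁻¹) := by
    intro k
    induction k with
    | zero => simp
    | succ k ih =>
      refine ⟨fun q hq => ?_, ?_⟩
      · rw [show w ^ (k + 1) * q * (w ^ (k + 1))⁻¹ = w * (w ^ k * q * (w ^ k)⁻¹) * w⁻¹ by
          rw [pow_succ']; group]
        exact hwQ _ (ih.1 q hq)
      · rw [show w ^ (k + 1) * (y : G) * (w ^ (k + 1))⁻¹ = w * (w ^ k * (y : G) * (w ^ k)⁻¹) * w⁻¹ by
          rw [pow_succ']; group, ih.2]
        by_cases hk : Even k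
        · rw [if_pos hk, if_neg (by rw [Nat.even_add_one]; exact not_not.mpr hk), hwy]
        · rw [if_neg hk, if_pos (Nat.even_add_one.mpr hk),
            show w * (y : G)⁻¹ * w⁻¹ = (w * (y : G) * w⁻¹)⁻¹ by group, hwy, inv_inv]
  have hsy : s * (y : G) * s⁻¹ = (y : G)⁻¹ := by
    rw [hs, (hws r').2, if_neg (Nat.not_even_iff_odd.mpr hr'odd)]
  have hsQ1 : ∀ q ∈ Q, s * q * s⁻¹ ∈ Q := (hws r').1
  have hsn : s ∈ Subgroup.normalizer (Q : Set G) :=
    Subgroup.mem_normalizer_iff.mpr (fun q => ⟨hsQ1 q, fun hq => by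
      have : s⁻¹ = w ^ (ow * r' - r') := by
        refine inv_eq_of_mul_eq_one_right ?_
        rw [hs, ← pow_add, Nat.add_sub_cancel' (Nat.le_mul_of_pos_left _ (orderOf_pos w)),
          pow_mul, pow_orderOf_eq_one w, one_pow]
      have h' := (hws (ow * r' - r')).1 _ hq
      rw [← this, inv_inv] at h'
      simpa [mul_assoc] using h'⟩)
  have hs2n : s * s ∈ Subgroup.normalizer (Q : Set G) := mul_mem hsn hsn
  have hsord : ∃ j, s ^ (2 ^ j) = 1 := ⟨ow.factorization 2, by
    rw [hs, ← pow_mul, mul_comm, hr', Nat.ordProj_mul_ordCompl_eq_self, how, pow_orderOf_eq_one w]⟩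
  have hs2 : s * s ∈ Q := by
    obtain ⟨j, hj⟩ := hsord
    have hz : IsPGroup 2 (Subgroup.zpowers (s * s)) := by
      have : (s * s) ^ (2 ^ j) = 1 := by
        rw [(Commute.refl s).mul_pow, hj, one_mul]
      obtain ⟨i, -, hi⟩ := (Nat.dvd_prime_pow Nat.prime_two).mp (orderOf_dvd_of_pow_eq_one this)
      exact IsPGroup.of_card (n := i) (by rw [Nat.card_zpowers, hi])
    have hle : Subgroup.zpowers (s * s) ≤ Subgroup.normalizer (Q : Set G) :=
      Subgroup.zpowers_le.mpr hs2n
    have hQp : IsPGroup 2 Q := IsPGroup.of_card hQcard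
    have hsup := IsPGroup.to_sup_of_normal_left' hQp hz hle
    refine hmax _ (sup_le hQD (Subgroup.zpowers_le.mpr ?_)) le_sup_left hsup
      (le_sup_right (a := Q) (Subgroup.mem_zpowers _))
    rw [hD, Subgroup.mem_centralizer_singleton_iff]
    calc s * s * (y : G) = s * (s * (y : G) * s⁻¹) * s⁻¹ * (s * s) := by group
      _ = _ := by
          rw [hsy, show s * (y : G)⁻¹ * s⁻¹ = (s * (y : G) * s⁻¹)⁻¹ by group, hsy, inv_inv]
  have hsQ : ∀ q, q ∈ Q ↔ s * q * s⁻¹ ∈ Q := fun q => Subgroup.mem_normalizer_iff.mp hsn q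
  -- the odd multiplicity
  have hord : orderOf (y : G) = orderOf y := Subgroup.orderOf_coe y
  obtain ⟨z, hz, m, hm, hmy⟩ := exists_odd_mult (IsIrr.isCharacter hθ) y hy2
  have hz' : z ^ orderOf (y : G) = 1 := by rw [hord]; exact hz
  have he : ∀ χ : IrrCharacter G, ∃ e : ℕ, classInner (fun n : N => (χ : G → ℂ) n) θ = e :=
    fun χ => IsChar.classInner_nat (IsChar.res (IsIrr.isCharacter χ.2) N) (IsIrr.isCharacter hθ)
  have hc : ∀ χ : IrrCharacter G, ∃ c : ℕ, mult (y : G) Q z (χ : G → ℂ) = c := fun χ =>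
    mult_nat (IsIrr.isCharacter χ.2) _ Q hQy z hz'
  choose ec hec using he
  choose mc hmc using hc
  have hindval : ∀ (i : ℕ) (q : G), q ∈ Q →
      indFun N θ ((y : G) ^ i * q) = if q = 1 then (2 : ℂ) ^ a * θ (y ^ i) else 0 := by
    intro i q hq
    have hqy := hQy q hq
    by_cases hq1 : q = 1
    · subst hq1
      rw [if_pos rfl, mul_one]
      simp only [indFun]
      have hval : ∀ x : G, extendByZero N θ (x⁻¹ * (y : G) ^ i * x) = θ (y ^ i) := by
        intro x
        have hmemN : x⁻¹ * (y : G) ^ i * x ∈ N := by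
          simpa using hN.conj_mem _ (N.pow_mem y.2 i) x⁻¹
        rw [extendByZero_of_mem _ hmemN]
        have hx' : θ ⟨x⁻¹ * (y : G) ^ i * x, hmemN⟩ = conjN N x⁻¹ θ (y ^ i) :=
          congrArg θ (Subtype.ext (by simp))
        rw [hx']
        obtain ⟨n', hn'⟩ := hstab x⁻¹
        rw [hD, Subgroup.mem_centralizer_singleton_iff] at hn'
        have hy'' : (y ^ i : N) = n' * ⟨x⁻¹ * (y : G) ^ i * x⁻¹⁻¹,
            hN.conj_mem _ (N.pow_mem y.2 i) x⁻¹⟩ * n'⁻¹ := by
          refine Subtype.ext ?_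
          show ((y ^ i : N) : G) = (n' : G) * (x⁻¹ * (y : G) ^ i * x⁻¹⁻¹) * (n' : G)⁻¹
          have hc' : Commute ((n' : G) * x⁻¹) ((y : G) ^ i) :=
            (show Commute ((n' : G) * x⁻¹) (y : G) from hn').pow_right i
          calc ((y ^ i : N) : G) = ((n' : G) * x⁻¹ * (y : G) ^ i) * ((n' : G) * x⁻¹)⁻¹ := by
                rw [hc'.eq, SubgroupClass.coe_pow]; group
            _ = _ := by group
        conv_rhs => rw [hy'', IsIrr.classFun hθ]
        rfl
      rw [Finset.sum_congr rfl fun x _ => hval x, Finset.sum_const, Finset.card_univ,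
        ← Nat.card_eq_fintype_card, nsmul_eq_mul, ← mul_assoc]
      congr 1
      rw [← N.index_mul_card, hidx]
      push_cast
      field_simp
    · rw [if_neg hq1]
      refine indFun_eq_zero_of_not_conj N θ fun x hx => ?_
      have hqN : q ∈ N := by
        have h1 : (y : G) ^ i * q ∈ N := by
          simpa [mul_assoc] using hN.conj_mem _ hx x
        simpa using N.mul_mem (N.inv_mem (N.pow_mem y.2 i)) h1
      refine absurd ?_ hq1
      have hqC : (⟨q, hqN⟩ : N) ∈ Subgroup.centralizer ({y} : Set N) :=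
        Subgroup.mem_centralizer_singleton_iff.mpr (Subtype.ext hqy)
      have h1 : orderOf q ∣ Nat.card (Subgroup.centralizer ({y} : Set N)) := by
        rw [show q = (((⟨⟨q, hqN⟩, hqC⟩ : Subgroup.centralizer ({y} : Set N)) : N) : G) from rfl,
          Subgroup.orderOf_coe, Subgroup.orderOf_coe]
        exact orderOf_dvd_natCard _
      have h2 : orderOf q ∣ 2 ^ a := by
        rw [← hQcard, show q = ((⟨q, hq⟩ : Q) : G) from rfl, Subgroup.orderOf_coe]
        exact orderOf_dvd_natCard _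
      have h3 := Nat.dvd_gcd h2 h1
      rw [((Nat.coprime_two_left.mpr hyodd).pow_left a).gcd_eq_one] at h3
      exact orderOf_eq_one_iff.mp (Nat.dvd_one.mp h3)
  have hsum : ∑ χ : IrrCharacter G, ec χ * mc χ = m := by
    have hexp : ∀ g, indFun N θ g = ∑ χ : IrrCharacter G, (ec χ : ℂ) * (χ : G → ℂ) g := by
      intro g
      rw [congrFun (classFunction_expansion (indFun_classFun N θ)) g, sum_irr_apply]
      refine Finset.sum_congr rfl fun χ _ => ?_
      rw [classInner_indFun N θ (IsIrr.classFun χ.2), ← classInner_conj_symm, hec, map_natCast]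
    letI := Fintype.ofFinite Q
    have hcast : ((∑ χ : IrrCharacter G, ec χ * mc χ : ℕ) : ℂ) = (m : ℂ) := by
      push_cast
      simp only [← hmc, mult, Finset.mul_sum]
      rw [Finset.sum_comm]
      calc _ = ∑ i ∈ Finset.range (orderOf (y : G)), ∑ q : Q,
            ((orderOf (y : G) : ℂ) * (Nat.card Q : ℂ))⁻¹ *
              (z ^ i * indFun N θ ((y : G) ^ i * (q : G))) := by
            refine Finset.sum_congr rfl fun i _ => ?_
            rw [Finset.sum_comm]
            refine Finset.sum_congr rfl fun q _ => ?_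
            simp only [hexp, Finset.mul_sum]
            exact Finset.sum_congr rfl fun χ _ => by ring
        _ = _ := by
            rw [← hmy, hord, Finset.mul_sum]
            refine Finset.sum_congr rfl fun i _ => ?_
            rw [Fintype.sum_eq_single (1 : Q) (fun q hq => by
              rw [hindval i q q.2, if_neg (fun h : (q : G) = 1 => hq (Subtype.ext h)), mul_zero, mul_zero]),
              OneMemClass.coe_one, hindval i _ (one_mem Q), if_pos rfl, hQcard]
            push_cast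
            field_simp
    exact_mod_cast hcast
  -- complex conjugation
  obtain ⟨g0, hg0⟩ := hg0
  let σ : IrrCharacter G → IrrCharacter G := fun χ => ⟨_, IsIrr.conj χ.2⟩
  have hσ : ∀ χ, σ (σ χ) = χ := fun χ => Subtype.ext (funext fun g => Complex.conj_conj _)
  have hfσ : ∀ χ, ec (σ χ) * mc (σ χ) = ec χ * mc χ := by
    intro χ
    have h1 : mc (σ χ) = mc χ := by
      have := mult_conj χ.2 (y : G) s Q hQy hsy hsQ z
      rw [show mult (y : G) Q z (fun g => conj ((χ : G → ℂ) g)) = _ from hmc (σ χ), hmc χ] at this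
      exact_mod_cast this
    have h2 : ec (σ χ) = ec χ := by
      have h3 := classInner_res_conjN N (IsIrr.classFun χ.2) θ g0
      rw [hg0, hec χ] at h3
      have h4 : classInner (fun n : N => conj ((χ : G → ℂ) n)) θ =
          conj (classInner (fun n : N => (χ : G → ℂ) n) (fun n => conj (θ n))) := by
        simp [classInner, map_sum]
      rw [show classInner (fun n : N => conj ((χ : G → ℂ) n)) θ = _ from hec (σ χ), h3,
        map_natCast] at h4
      exact_mod_cast h4
    rw [h1, h2]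
  obtain ⟨ψ, hψσ, hψodd⟩ := exists_fixed_odd σ hσ (fun χ => ec χ * mc χ) hfσ (hsum ▸ hm)
  have heo : Odd (ec ψ) := (Nat.odd_mul.mp hψodd).1
  have hne : classInner (fun n : N => (ψ : G → ℂ) n) θ ≠ 0 := by
    rw [hec]; exact Nat.cast_ne_zero.mpr heo.pos.ne'
  have he1 : ec ψ = 1 := by
    obtain ⟨e', he', hdvd⟩ := Ext.ratio_dvd_index' ψ.2 hθ hne
    have h := clifford_one N ψ.2 hθ hne
    rw [hec, he'] at h
    have h' : ec ψ * (inertia N θ).index = e' := by
      have := mul_right_cancel₀ (IsIrr.one_ne_zero hθ) h.symm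
      exact_mod_cast this
    have hd2 : ec ψ ∣ 2 ^ a := (h' ▸ dvd_mul_right _ _).trans (hidx ▸ hdvd)
    exact Nat.eq_one_of_dvd_coprimes ((Nat.coprime_two_left.mpr heo).pow_left a) hd2 dvd_rfl
  refine ⟨(ψ : G → ℂ), ψ.2, fun g => congrFun (congrArg Subtype.val hψσ) g, by
    rw [hec, he1, Nat.cast_one], y, s, Q, hQy, hsy, hsQ, hs2, z, hz', mc ψ,
    (Nat.odd_mul.mp hψodd).2, hmc ψ⟩

end Cfsg.Agent.Block.TwoOrth
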